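import Mathlib
import Cfsg.Agent.H597.E8Form
import Cfsg.Agent.H942.Core
import Cfsg.Agent.ChevalleyStructure.Elts
import Cfsg.Agent.ChevalleyStructure.Good
import Cfsg.Agent.S1054
import Cfsg.Agent.ChevFast.E8
import Cfsg.Agent.Prune
set_option linter.all false

-- part: H942/L7/Iface2
section
set_option linter.all false
open scoped Cfsg.Agent.FastGrp

/-!
# S5920: second interface file
-/

set_option autoImplicit false

namespace Cfsg.Agent.H942.L7

open Equiv Cfsg Cfsg.Lie Cfsg.Agent.H657 IsLocalRing Module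
open Cfsg.Agent.H942.E8Alc

/-- an element of order 8 of `PGL₂(7)`; `y8 ^ 2` is an element of order 4 of `D8a` -/
def y8 : Perm (Fin 8) := ⟨![2, 4, 5, 0, 6, 7, 3, 1], ![3, 7, 0, 6, 1, 2, 4, 5], by decide, by decide⟩

/-- Task CENT: orders of the groups and of some centralisers. -/
def Cent : Prop :=
  Nat.card ↥P168 = 168 ∧ Nat.card ↥P336 = 336 ∧ y8 ∈ P336 ∧ y8 ^ 2 ∈ P168 ∧ y8 ∉ P168 ∧
  (∀ c : ↥P168, (c : Perm (Fin 8)) = y8 ^ 2 → Nat.card ↥(Subgroup.centralizer {c}) ≤ 4) ∧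
  (∀ c : ↥P336, (c : Perm (Fin 8)) = y8 ^ 2 → Nat.card ↥(Subgroup.centralizer {c}) ≤ 8) ∧
  (∀ c : ↥P336, (c : Perm (Fin 8)) = y8 → Nat.card ↥(Subgroup.centralizer {c}) ≤ 8)

/-- Task CONJ: conjugacy of elements of the groups. -/
def Conj : Prop :=
  (∀ g ∈ P168, g ^ 2 = 1 → g ≠ 1 → ∃ h ∈ P168, h⁻¹ * g * h = za) ∧
  (∀ g ∈ P336, g ^ 4 = 1 → g ^ 2 ≠ 1 → ∃ h ∈ P168, h⁻¹ * g * h = y8 ^ 2) ∧
  (∀ g ∈ P336, g ^ 7 = 1 → g ≠ 1 → ∃ h ∈ P168, ∃ d : ℕ, ¬ 7 ∣ d ∧ h⁻¹ * g * h = nn ^ d) ∧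
  (∀ g ∈ P336, g ^ 8 = 1 → g ^ 4 ≠ 1 → ∃ h ∈ P336, ∃ d : ℕ, ¬ 2 ∣ d ∧ h⁻¹ * g * h = y8 ^ d) ∧
  (∀ g ∈ P336, g ∉ P168 → g ^ 2 = 1 → ∃ h ∈ P336, h⁻¹ * g * h = g6 ^ 3)

/-- the vectors fixed by the elements of a list, on the adjoint module of `E₈` over `F₃` -/
def fixL {Q : Type*} [Group Q] (F : Q →* ↥(chevE8.group (ZMod 3))) (L : List Q) :
    Submodule (ZMod 3) (chevE8.Idx → ZMod 3) where
  carrier := {v | ∀ g ∈ L, (((F g : ↥(chevE8.group (ZMod 3))) : GL chevE8.Idx (ZMod 3)) :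
    Matrix chevE8.Idx chevE8.Idx (ZMod 3)).mulVec v = v}
  add_mem' := fun ha hb g hg => by rw [Matrix.mulVec_add, ha g hg, hb g hg]
  zero_mem' := fun g _ => Matrix.mulVec_zero _
  smul_mem' := fun c v hv g hg => by rw [Matrix.mulVec_smul, hv g hg]

/-- Task DIM: the dimension over `F₃` of the fixed space of a `3'`-group in terms of the Brauer character
(`Cfsg.Agent.H597.BrInv.C` is the statement over the residue field; `Cfsg.Agent.H953.rank_map`). -/
def Dim : Prop := ∀ (M : Ideal AlgInt) (V : ValuationSubring ℂ) (_ : IsPModular 3 M) (_ : Above M V)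
  [CharP (ResidueField V) 3] (Q : Type) [Group Q] (F : Q →* ↥(chevE8.group (ZMod 3))) (L : List Q) (_ : L.Nodup)
  (_ : (1 : Q) ∈ L) (_ : ∀ a ∈ L, ∀ b ∈ L, a * b ∈ L) (_ : L.length.Coprime 3),
  (L.map fun g => bc 3 (adj V F) g).sum = (L.length : ℂ) * (finrank (ZMod 3) ↥(fixL F L) : ℂ)

/-- Task NOFIX: the adjoint module of `E₈(3)` has no fixed vectors, and the group is simple. -/
def NoFix : Prop := IsSimpleGroup ↥(chevE8.group (ZMod 3)) ∧ (∀ v : chevE8.Idx → ZMod 3,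
  (∀ g ∈ chevE8.group (ZMod 3), (g : Matrix chevE8.Idx chevE8.Idx (ZMod 3)).mulVec v = v) → v = 0)

end Cfsg.Agent.H942.L7
end

-- part: H834/E8/NoFix
section
set_option linter.all false
open scoped Cfsg.Agent.FastGrp

-- part: H834/E8/FixZero
section
/-!
# S5920, task NOFIX (helper834): the adjoint module of `E₈(3)` has no fixed vectors

If `x_r(1) v = v` for all roots `r`, the Cartan part of `x_r(1) v - v` is `v_{-r} h_r`, and `h_r ≠ 0` modulo 3: all root
coordinates of `v` vanish; then the coordinate at `r` gives `∑ A_{p_i, r} v_i = 0`, and the Cartan matrix is invertible.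
-/

set_option autoImplicit false

namespace Cfsg.Agent.H834.E8

open Cfsg Cfsg.Lie Cfsg.Agent.ChevalleyStructure.Elts Cfsg.Agent.ChevalleyStructure.Columns

theorem inList : InList chevE8 := by simp

theorem xG_mem (r : Fin chevE8.nroots) (t : ZMod 3) : xG inList r.val t ∈ chevE8.group (ZMod 3) :=
  Subgroup.subset_closure ⟨r, t, by rw [coe_xG, x_of_lt r.isLt]⟩

/-- `s = -(rev s)`, and the coroot of `rev s` is not zero modulo 3 -/
theorem coroot_ne : ∀ s : Fin 240, s.val = chevE8.negIdx.getD (Fin.rev s).val 0 ∧ s ≠ Fin.rev s ∧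
    ∃ i : Fin 8, ((cor chevE8 (Fin.rev s).val i.val : ℤ) : ZMod 3) ≠ 0 := by
  (delta Cfsg.Agent.ChevalleyStructure.Columns.cor; rewrite [Cfsg.Agent.ChevFast.E8.coroot, Cfsg.Agent.ChevFast.E8.negA]; decide +kernel)

/-- the inverse of the Cartan matrix -/
def invC : Fin 8 → Fin 8 → ZMod 3 :=
  ![![4, 5, 7, 10, 8, 6, 4, 2], ![5, 8, 10, 15, 12, 9, 6, 3], ![7, 10, 14, 20, 16, 12, 8, 4],
    ![10, 15, 20, 30, 24, 18, 12, 6], ![8, 12, 16, 24, 20, 15, 10, 5], ![6, 9, 12, 18, 15, 12, 8, 4],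
    ![4, 6, 8, 12, 10, 8, 6, 3], ![2, 3, 4, 6, 5, 4, 3, 2]]

/-- the simple roots -/
def simp8 : Fin 8 → Fin 240 := ![162, 141, 135, 130, 126, 123, 121, 120]

theorem invC_mul : ∀ k i : Fin 8,
    ∑ j : Fin 8, invC k j * ((car chevE8 i.val (simp8 j).val : ℤ) : ZMod 3) = if k = i then 1 else 0 := by
  (delta Cfsg.Agent.ChevalleyStructure.Columns.car; (try set_option simprocs false in simp -zeta only [Cfsg.Agent.ChevFast.E8.cartanR]); decide +kernel)

section General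

variable {F : Type*} [Field F] (D : ChevalleyDatum)

theorem row_inl (r s : Fin D.nroots) (hs : s.val = D.negIdx.getD r.val 0) (hne : s ≠ r) (i : Fin D.rank)
    {v : D.Idx → F} (h : (D.xMat F r 1).mulVec v = v) : (cor D r.val i.val : F) * v (Sum.inr s) = 0 := by
  have h3 := congrFun h (Sum.inl i)
  rw [Matrix.mulVec, dotProduct, Fintype.sum_sum_type] at h3
  have h4 : ∑ j : Fin D.rank, D.xMat F r 1 (Sum.inl i) (Sum.inl j) * v (Sum.inl j) = v (Sum.inl i) := by
    rw [Finset.sum_eq_single i]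
    · rw [xMat_inl_inl, if_pos rfl, one_mul]
    · intro j _ hj
      rw [xMat_inl_inl, if_neg (Ne.symm hj), zero_mul]
    · intro h; exact absurd (Finset.mem_univ _) h
  have h5 : ∑ u : Fin D.nroots, D.xMat F r 1 (Sum.inl i) (Sum.inr u) * v (Sum.inr u) =
      (cor D r.val i.val : F) * v (Sum.inr s) := by
    rw [Finset.sum_eq_single s]
    · rw [xMat_inl_inr, if_neg hne, if_pos hs, mul_one]
    · intro u _ hu
      rw [xMat_inl_inr]
      split_ifs with ha hb
      · rw [zero_mul]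
      · exact absurd (Fin.ext (hb.trans hs.symm)) hu
      · rw [zero_mul]
    · intro h; exact absurd (Finset.mem_univ _) h
  rw [h4, h5] at h3
  have := sub_eq_zero.2 h3
  rwa [add_sub_cancel_left] at this

theorem row_inr (r : Fin D.nroots) {v : D.Idx → F} (h : (D.xMat F r 1).mulVec v = v)
    (hz : ∀ s, v (Sum.inr s) = 0) : ∑ i : Fin D.rank, (car D i.val r.val : F) * v (Sum.inl i) = 0 := by
  have h3 := congrFun h (Sum.inr r)
  rw [Matrix.mulVec, dotProduct, Fintype.sum_sum_type, hz] at h3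
  simp only [hz, mul_zero, Finset.sum_const_zero, add_zero, xMat_inr_inl, if_true, mul_one, neg_mul,
    Finset.sum_neg_distrib, neg_eq_zero] at h3
  exact h3

end General

theorem fixed_zero (v : chevE8.Idx → ZMod 3)
    (hv : ∀ g ∈ chevE8.group (ZMod 3), (g : Matrix chevE8.Idx chevE8.Idx (ZMod 3)).mulVec v = v) : v = 0 := by
  have h1 : ∀ (r : Fin chevE8.nroots) (t : ZMod 3), (chevE8.xMat (ZMod 3) r t).mulVec v = v := by
    intro r t
    have := hv _ (xG_mem r t)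
    rwa [coe_xG, x_of_lt r.isLt] at this
  -- the root coordinates
  have h2 : ∀ s : Fin chevE8.nroots, v (Sum.inr s) = 0 := by
    intro s
    obtain ⟨hs, hne, i, hi⟩ := coroot_ne s
    exact (mul_eq_zero.1 (row_inl chevE8 (Fin.rev s) s hs hne i (h1 _ 1))).resolve_left hi
  -- the Cartan coordinates
  have h7 : ∀ r : Fin 240, ∑ i : Fin 8, ((car chevE8 i.val r.val : ℤ) : ZMod 3) * v (Sum.inl i) = 0 :=
    fun r => row_inr chevE8 r (h1 r 1) h2
  have h8 : ∀ k : Fin 8, v (Sum.inl k) = 0 := by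
    obtain ⟨w, hw⟩ : ∃ w : Fin 8 → ZMod 3, ∀ i : Fin 8, v (Sum.inl i) = w i := ⟨fun i => v (Sum.inl i), fun _ => rfl⟩
    have h7' : ∀ r : Fin 240, ∑ i : Fin 8, ((car chevE8 i.val r.val : ℤ) : ZMod 3) * w i = 0 := by
      intro r
      rw [← h7 r]
      exact Finset.sum_congr rfl fun i _ => by rw [hw]
    intro k
    rw [hw]
    have h9 : ∑ j : Fin 8, invC k j * (∑ i : Fin 8, ((car chevE8 i.val (simp8 j).val : ℤ) : ZMod 3) * w i) = 0 :=
      Finset.sum_eq_zero fun j _ => by rw [h7', mul_zero]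
    have h11 : ∑ j : Fin 8, invC k j * (∑ i : Fin 8, ((car chevE8 i.val (simp8 j).val : ℤ) : ZMod 3) * w i) =
        ∑ i : Fin 8, (∑ j : Fin 8, invC k j * ((car chevE8 i.val (simp8 j).val : ℤ) : ZMod 3)) * w i := by
      simp only [Finset.mul_sum, Finset.sum_mul]
      rw [Finset.sum_comm]
      exact Finset.sum_congr rfl fun i _ => Finset.sum_congr rfl fun j _ => (mul_assoc _ _ _).symm
    rw [h11] at h9
    simp only [invC_mul, ite_mul, one_mul, zero_mul, Finset.sum_ite_eq, Finset.mem_univ, if_true] at h9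
    exact h9
  funext w
  rcases w with i | s
  · exact h8 i
  · exact h2 s

end Cfsg.Agent.H834.E8
end

-- part: H834/E8/NoFix
section
/-!
# S5920, task NOFIX (helper834)
-/

set_option autoImplicit false

namespace Cfsg.Agent.H834.E8

open Cfsg Cfsg.Lie

/-- **Task NOFIX** -/
theorem noFix : Cfsg.Agent.H942.L7.NoFix := ⟨(Cfsg.Agent.S1054.result chevE8 (by simp)).1, fixed_zero⟩

end Cfsg.Agent.H834.E8
end
end
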